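import Groth.Agent.GlueCoverLib.Local
import Groth.Agent.ASp.Univ
import Groth.Agent.ASp.ClosedFP
import Groth.Agent.ASp.MorCancel
import Groth.Prelude.Def_AlgSpMor5
import Groth.Prelude.Def_AlgSpCov

/-!
An fpqc covering refining an open subspace and a modification flat along the complement.
-/

set_option autoImplicit false
set_option backward.isDefEq.respectTransparency false
set_option backward.isDefEq.respectTransparency.types false

universe u

open CategoryTheory CategoryTheory.Limits AlgebraicGeometry Opposite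

namespace Groth.Agent.GlueCoverLib

open _root_.AlgSp Groth.Agent.ASp

variable {S : Scheme.{u}}

/-- Refining each member of a covering by affine schemes by finite flat coverings gives a covering. -/
theorem isFpqcCover_bind {κ : Type u} {X : Sp S} {V : κ → Over S} (hV : ∀ k, IsAffine (V k).left)
    {a : ∀ k, (yon S).obj (V k) ⟶ X} (ha : IsFpqcCover (fun k => (yon S).obj (V k)) a)
    (m : κ → ℕ) (E : ∀ k, Fin (m k) → Over S) (e : ∀ k j, E k j ⟶ V k)
    (hE : ∀ k j, IsAffine (E k j).left) (hf : ∀ k j, Flat (e k j).left)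
    (hs : ∀ k (z : ↥(V k).left), ∃ j, z ∈ Set.range (e k j).left)
    (hloc : ∀ k j, LocP @Flat ((yon S).map (e k j) ≫ a k)) :
    IsFpqcCover (fun t : Σ k, ULift.{u} (Fin (m k)) => (yon S).obj (E t.1 t.2.down))
      (fun t => (yon S).map (e t.1 t.2.down) ≫ a t.1) := by
  refine ⟨fun t => hloc _ _, fun Z hZ h => ?_⟩
  obtain ⟨r, W, c, hW, hc, hcs, hl⟩ := ha.2 Z hZ h
  choose k l hl using hl
  have h2 := fun j => (haveI := hV (k j); isFpqcCover_yon (E (k j)) (e (k j)) (hE (k j)) (hf (k j)) (hs (k j))).2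
    (W j) (hW j) (l j)
  choose n W' c' hW' hc' hs' hl' using h2
  let q : Fin (∑ j, n j) ≃ Σ j : Fin r, Fin (n j) := finSigmaFinEquiv.symm
  refine ⟨∑ j, n j, fun t => W' (q t).1 (q t).2, fun t => c' (q t).1 (q t).2 ≫ c (q t).1,
    fun t => hW' _ _, fun t => ?_, fun z => ?_, fun t => ?_⟩
  · have := hc (q t).1
    have := hc' (q t).1 (q t).2
    rw [Over.comp_left]
    infer_instance
  · obtain ⟨j, w, rfl⟩ := hcs z
    obtain ⟨t, w', rfl⟩ := hs' j w
    refine ⟨q.symm ⟨j, t⟩, ?_⟩
    have key : ∀ d : Σ j : Fin r, Fin (n j), d = ⟨j, t⟩ →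
        (c j).left ((c' j t).left w') ∈ Set.range ((c' d.1 d.2 ≫ c d.1).left) := by
      rintro _ rfl
      exact ⟨w', by rw [Over.comp_left, Scheme.Hom.comp_apply]⟩
    exact key _ (by simp)
  · obtain ⟨i, l', hl''⟩ := hl' (q t).1 (q t).2
    refine ⟨⟨k (q t).1, i⟩, l', ?_⟩
    rw [reassoc_of% hl'', hl, Functor.map_comp, Category.assoc]

variable {X Y Z U : Sp S}

theorem map_schemeEquiv {T T' : Over S} (φ : T ⟶ T') (t : ↥T.left) :
    Points.map ((yon S).map φ) (Points.schemeEquiv T t) = Points.schemeEquiv T' (φ.left t) :=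
  Points.map_yon_map_apply φ t

/-- Over an affine etale chart the open complement and the modification give a finite flat covering. -/
theorem exists_cover_chart (hX : IsAlgSpace X) (hY : IsAlgSpace Y) {f : Y ⟶ X} (hqc : IsQuasiCompactMor f)
    {i : Z ⟶ X} (hi : RepWith @IsClosedImmersion i) (hifp : LocP @LocallyOfFinitePresentation i)
    {j : U ⟶ X} (hj : RepWith @IsOpenImmersion j)
    (hU : Set.range (Points.map j) = (Set.range (Points.map i))ᶜ)
    (hZY : Set.range (Points.map i) ⊆ Set.range (Points.map f))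
    (hflat : ∀ y, Points.map f y ∈ Set.range (Points.map i) → IsFlatAtMor f y)
    {V : Over S} [IsAffine V.left] {a : (yon S).obj V ⟶ X} (ha : RepWith @Etale a) :
    ∃ (m : ℕ) (E : Fin m → Over S) (e : ∀ t, E t ⟶ V), (∀ t, IsAffine (E t).left) ∧
      (∀ t, Flat (e t).left) ∧ (∀ v : ↥V.left, ∃ t, v ∈ Set.range (e t).left) ∧
      ∀ t, (∃ l, l ≫ j = (yon S).map (e t) ≫ a) ∨ ∃ l, l ≫ f = (yon S).map (e t) ≫ a := by
  classical
  obtain ⟨C, c₁, c₂, hC⟩ : ∃ (C : Over S) (c₁ : (yon S).obj C ⟶ Z) (c₂ : C ⟶ V),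
      IsPullback c₁ ((yon S).map c₂) i a := ⟨_, _, _, hi.1.isPullback a⟩
  haveI : IsClosedImmersion c₂.left := hi.2 _ _ _ hC
  haveI : LocallyOfFinitePresentation c₂.left :=
    hifp c₁ a c₂ (repWith_of_isPullback hC.flip ha) ha hC.w
  obtain ⟨s, hs⟩ := (lfp_iff_fg_of_isClosedImmersion c₂.left).1 inferInstance
  have hrC : Set.range c₂.left = V.left.zeroLocus (U := ⊤) (s : Set Γ(V.left, ⊤)) := by
    have h1 := c₂.left.ker.coe_support_inter ⟨⊤, isAffineOpen_top V.left⟩
    rw [Scheme.Hom.support_ker, Scheme.Hom.ker_apply] at h1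
    simp only [TopologicalSpace.Opens.coe_top, Set.inter_univ] at h1
    rw [c₂.left.isClosedEmbedding.isClosed_range.closure_eq] at h1
    rw [h1, ← hs]
    exact V.left.zeroLocus_span _
  have hpC : ∀ v : ↥V.left, Points.ofPt a v ∈ Set.range (Points.map i) ↔ v ∈ Set.range c₂.left := fun v => by
    have h1 := congrArg (fun T => Points.schemeEquiv V v ∈ T) (range_map_snd hC)
    simp only [Set.mem_preimage, eq_iff_iff] at h1
    have h2 : Points.map a (Points.schemeEquiv V v) = Points.ofPt a v :=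
      (Points.ofPt_eq_map_ofScheme a v).symm
    rw [h2] at h1
    rw [← h1]
    constructor
    · rintro ⟨p, hp⟩
      obtain ⟨z, rfl⟩ := (Points.schemeEquiv C).surjective p
      refine ⟨z, (Points.schemeEquiv V).injective ?_⟩
      rw [← hp]
      exact (map_schemeEquiv c₂ z).symm
    · rintro ⟨z, rfl⟩
      exact ⟨Points.schemeEquiv C z, map_schemeEquiv c₂ z⟩
  obtain ⟨O, o₁, o₂, hO⟩ : ∃ (O : Over S) (o₁ : (yon S).obj O ⟶ U) (o₂ : O ⟶ V),
      IsPullback o₁ ((yon S).map o₂) j a := ⟨_, _, _, hj.1.isPullback a⟩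
  haveI : IsOpenImmersion o₂.left := hj.2 _ _ _ hO
  have hpO : ∀ v : ↥V.left, Points.ofPt a v ∈ Set.range (Points.map j) → v ∈ Set.range o₂.left := fun v hv => by
    rw [Points.ofPt_eq_map_ofScheme a v] at hv
    have h1 := (Set.ext_iff.1 (range_map_snd hO) (Points.schemeEquiv V v)).2 hv
    obtain ⟨p, hp⟩ := h1
    obtain ⟨z, rfl⟩ := (Points.schemeEquiv O).surjective p
    refine ⟨z, (Points.schemeEquiv V).injective ?_⟩
    rw [← hp]
    exact (map_schemeEquiv o₂ z).symm
  have sq := IsPullback.of_hasPullback f a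
  have hP : IsAlgSpace (pullback f a) := isAlgSpace_pullback hX.diag hY (IsAlgSpace.yon_obj V) f a
  haveI := compactSpace_of_isQuasiCompactSp (hqc (IsAlgSpace.yon_obj V) isQuasiCompactSp_yon a _ _ sq)
  obtain ⟨W, q, hW, hq, hqs⟩ := exists_affine_chart hP
  obtain ⟨w, hw⟩ := (yon S).map_surjective (q ≫ pullback.snd f a)
  have hqf : RepWith @Etale (q ≫ pullback.fst f a) :=
    repWith_comp hq (repWith_of_isPullback sq.flip ha)
  have he : (q ≫ pullback.fst f a) ≫ f = (yon S).map w ≫ a := by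
    rw [Category.assoc, sq.w, ← Category.assoc, hw]
  have hpW : ∀ x : ↥W.left, Points.map f (Points.ofPt (q ≫ pullback.fst f a) x) = Points.ofPt a (w.left x) := fun x => by
    rw [Points.map_ofPt, he, ofPt_yon_map_comp]
  haveI : IsAffine W.left := hW
  obtain ⟨W', ι, hW', hιf, hιr⟩ := exists_flat_localisation w.left (T := w.left ⁻¹' Set.range c₂.left)
    (c₂.left.isClosedEmbedding.isClosed_range.preimage w.left.continuous) (fun x hx =>
      hflat _ (by rw [hpW]; exact (hpC _).2 hx) (q ≫ pullback.fst f a) a w x hqf ha he rfl)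
  let n := s.card
  let g : Fin n → Γ(V.left, ⊤) := fun t => (s.equivFin.symm t).1
  let eL : Over.mk (ι ≫ W.hom) ⟶ V := Over.homMk (ι ≫ w.left) (by rw [Category.assoc, Over.w]; rfl)
  have key : ∀ t : Fin (n + 1), ∃ (E : Over S) (e : E ⟶ V), IsAffine E.left ∧ Flat e.left ∧
      ((∃ l, l ≫ j = (yon S).map e ≫ a) ∨ ∃ l, l ≫ f = (yon S).map e ≫ a) ∧
      (t = Fin.last n → Set.range c₂.left ⊆ Set.range e.left) ∧
      (∀ t', t = Fin.castSucc t' → (V.left.basicOpen (g t') : Set ↥V.left) ⊆ Set.range e.left) := by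
    intro t
    induction t using Fin.lastCases with
    | last =>
      refine ⟨Over.mk (ι ≫ W.hom), eL, hW', hιf, Or.inr ⟨(yon S).map (Over.homMk ι : Over.mk (ι ≫ W.hom) ⟶ W) ≫ q ≫ pullback.fst f a, ?_⟩,
        fun _ v hv => ?_, fun t' ht' => absurd ht' (Fin.castSucc_lt_last t').ne'⟩
      · rw [Category.assoc, he, ← Category.assoc, ← Functor.map_comp]
        rfl
      · obtain ⟨y, hy⟩ := hZY ((hpC v).2 hv)
        obtain ⟨p, -, hp⟩ := points_exists_of_isPullback sq y (Points.schemeEquiv V v) (by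
          rw [hy]; exact Points.ofPt_eq_map_ofScheme a v)
        obtain ⟨x, rfl⟩ := surjective_ofPt hqs p
        have hxv : w.left x = v := by
          refine (Points.schemeEquiv V).injective ?_
          rw [← hp, Points.map_ofPt, ← hw, ← Category.comp_id ((yon S).map w), ofPt_yon_map_comp]
          rfl
        obtain ⟨x', hx'⟩ := hιr (show x ∈ w.left ⁻¹' Set.range c₂.left by show w.left x ∈ Set.range c₂.left; rw [hxv]; exact hv)
        exact ⟨x', by show w.left (ι x') = v; rw [hx', hxv]⟩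
    | cast t' =>
      let b : Over.mk ((V.left.basicOpen (g t')).ι ≫ V.hom) ⟶ V := Over.homMk (V.left.basicOpen (g t')).ι rfl
      have hr : Set.range b.left ⊆ Set.range o₂.left := by
        rintro _ ⟨x, rfl⟩
        refine hpO _ ?_
        rw [hU]
        intro hmem
        have hv := (hpC _).1 hmem
        rw [hrC] at hv
        have := (Scheme.mem_zeroLocus_iff _ _ _).1 hv (g t') (s.equivFin.symm t').2
        exact this x.2
      refine ⟨_, b, (isAffineOpen_top V.left).basicOpen (g t'), inferInstanceAs (Flat (V.left.basicOpen (g t')).ι),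
        Or.inl ⟨(yon S).map (Over.homMk (IsOpenImmersion.lift o₂.left b.left hr) ?_) ≫ o₁, ?_⟩,
        fun h => absurd h (Fin.castSucc_lt_last t').ne, fun t'' h => ?_⟩
      · show _ ≫ O.hom = _
        rw [← Over.w o₂, IsOpenImmersion.lift_fac_assoc]
        exact Over.w b
      · rw [Category.assoc, hO.w, ← Category.assoc, ← Functor.map_comp]
        congr 2
        exact Over.OverMorphism.ext (IsOpenImmersion.lift_fac _ _ _)
      · obtain rfl := Fin.castSucc_injective _ h
        exact fun v hv => ⟨⟨v, hv⟩, rfl⟩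
  choose E e hE hef hl hlast hcast using key
  refine ⟨n + 1, E, e, hE, hef, fun v => ?_, hl⟩
  by_cases hv : v ∈ Set.range c₂.left
  · exact ⟨Fin.last n, hlast _ rfl hv⟩
  · rw [hrC, Scheme.mem_zeroLocus_iff] at hv
    push Not at hv
    obtain ⟨r, hr, hrv⟩ := hv
    refine ⟨Fin.castSucc (s.equivFin ⟨r, hr⟩), hcast _ _ rfl ?_⟩
    simpa [g] using hrv

/-- The covering of the whole space. -/
theorem exists_fpqcCover_refining (hX : IsAlgSpace X) (hY : IsAlgSpace Y) {f : Y ⟶ X} (hqc : IsQuasiCompactMor f)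
    {i : Z ⟶ X} (hi : RepWith @IsClosedImmersion i) (hifp : LocP @LocallyOfFinitePresentation i)
    {j : U ⟶ X} (hj : RepWith @IsOpenImmersion j)
    (hU : Set.range (Points.map j) = (Set.range (Points.map i))ᶜ)
    (hZY : Set.range (Points.map i) ⊆ Set.range (Points.map f))
    (hflat : ∀ y, Points.map f y ∈ Set.range (Points.map i) → IsFlatAtMor f y) :
    ∃ (ι : Type u) (W : ι → Over S) (w : ∀ k, (yon S).obj (W k) ⟶ X),
      IsFpqcCover (fun k => (yon S).obj (W k)) w ∧
        ∀ k, (∃ l, l ≫ j = w k) ∨ ∃ l, l ≫ f = w k := by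
  obtain ⟨T, p, hp, hps⟩ := hX.atlas
  let V : T.left.affineOpens → Over S := fun A => Over.mk (A.1.ι ≫ T.hom)
  let inc : ∀ A, V A ⟶ T := fun A => Over.homMk A.1.ι rfl
  let a : ∀ A, (yon S).obj (V A) ⟶ X := fun A => (yon S).map (inc A) ≫ p
  have hie : ∀ A, Etale (inc A).left := fun A => inferInstanceAs (Etale A.1.ι)
  have hae : ∀ A, RepWith @Etale (a A) := fun A => repWith_comp (repWith_yon_map (hie A)) hp
  haveI : ∀ A, IsAffine (V A).left := fun A => A.2
  have hcov : IsFpqcCover (fun A => (yon S).obj (V A)) a := by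
    refine isFpqcCover_of_fppf hX (fun A => IsAlgSpace.yon_obj _)
      (fun A => locP_of_repWith (repWith_mono (fun _ _ g (hg : Etale g) => inferInstanceAs (Flat g)) (hae A)))
      (fun A => locP_of_repWith (repWith_mono
        (fun _ _ g (hg : Etale g) => inferInstanceAs (LocallyOfFinitePresentation g)) (hae A))) fun x => ?_
    obtain ⟨v, rfl⟩ := surjective_ofPt hps x
    obtain ⟨A, hA, hvA, -⟩ := exists_isAffineOpen_mem_and_subset (x := v) (U := (⊤ : T.left.Opens)) (by simp)
    refine ⟨⟨A, hA⟩, Points.schemeEquiv (V ⟨A, hA⟩) ⟨v, hvA⟩, ?_⟩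
    rw [Points.map_comp, map_schemeEquiv]
    exact (Points.ofPt_eq_map_ofScheme p v).symm
  choose m E e hE hef hs hl using fun A =>
    exists_cover_chart hX hY hqc hi hifp hj hU hZY hflat (V := V A) (hae A)
  refine ⟨_, _, _, isFpqcCover_bind (fun A => A.2) hcov m E e hE hef hs (fun A t => ?_), fun t => hl _ _⟩
  refine locP_of_chart (P := @Flat) (a := 𝟙 _) (b := a A) (h := e A t) ?_ ?_ (hae A) (Category.id_comp _) (hef A t)
  · rw [← (yon S).map_id]; exact repWith_yon_map (inferInstanceAs (Etale (𝟙 (E A t).left)))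
  · rw [← (yon S).map_id]; exact repWith_yon_map (inferInstanceAs (Surjective (𝟙 (E A t).left)))

end Groth.Agent.GlueCoverLib
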