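import Mathlib.AlgebraicGeometry.Morphisms.Flat
import Mathlib.AlgebraicGeometry.AffineScheme

/-!
Localising an affine scheme along a closed set near which it is flat.
-/

set_option autoImplicit false
set_option backward.isDefEq.respectTransparency false
set_option backward.isDefEq.respectTransparency.types false

universe u

open CategoryTheory AlgebraicGeometry

namespace Groth.Agent.GlueCoverLib

variable {A B : Type u} [CommRing A] [CommRing B]

/-- The elements congruent to one modulo an ideal. -/
def oneAdd (J : Ideal B) : Submonoid B where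
  carrier := {b | b - 1 ∈ J}
  one_mem' := by simp
  mul_mem' {a b} ha hb := by
    have := J.add_mem (J.mul_mem_right b ha) hb
    show a * b - 1 ∈ J
    convert this using 1
    ring

theorem le_comap_of_isMaximal (J : Ideal B) (P : Ideal (Localization (oneAdd J))) [P.IsMaximal] :
    J ≤ P.comap (algebraMap B _) := by
  intro j hj
  by_contra hn
  obtain ⟨x, p, hp, hx⟩ := Ideal.IsMaximal.exists_inv ‹P.IsMaximal› hn
  obtain ⟨⟨b, s⟩, rfl⟩ := IsLocalization.mk'_surjective (oneAdd J) x
  have h1 : algebraMap B (Localization (oneAdd J)) ((s : B) - j * b) ∈ P := by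
    have e : algebraMap B (Localization (oneAdd J)) ((s : B) - j * b) =
        algebraMap B (Localization (oneAdd J)) s * p := by
      have hp' : p = 1 - IsLocalization.mk' (Localization (oneAdd J)) b s * algebraMap B _ j :=
        eq_sub_of_add_eq' hx
      rw [hp', mul_sub, mul_one, ← mul_assoc, IsLocalization.mk'_spec', map_sub, map_mul, mul_comm (algebraMap B _ b)]
    rw [e]
    exact P.mul_mem_left _ hp
  have h2 : (s : B) - j * b ∈ oneAdd J := by
    show (s : B) - j * b - 1 ∈ J
    have := J.sub_mem s.2 (J.mul_mem_right b hj)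
    convert this using 1
    ring
  exact (‹P.IsMaximal›.ne_top) (P.eq_top_of_isUnit_mem h1 (IsLocalization.map_units _ ⟨_, h2⟩))

theorem flat_oneAdd (φ : A →+* B) (J : Ideal B)
    (h : ∀ (q : Ideal B) [q.IsPrime], J ≤ q → ((algebraMap B (Localization.AtPrime q)).comp φ).Flat) :
    ((algebraMap B (Localization (oneAdd J))).comp φ).Flat := by
  algebraize [φ]
  rw [show (algebraMap B (Localization (oneAdd J))).comp φ = algebraMap A (Localization (oneAdd J)) from
    (IsScalarTower.algebraMap_eq A B _).symm]
  refine RingHom.flat_algebraMap_iff.2 (Module.flat_of_isLocalized_maximal (Localization (oneAdd J))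
    (Localization (oneAdd J)) (fun P => Localization.AtPrime P)
    (fun P => Algebra.linearMap (Localization (oneAdd J)) (Localization.AtPrime P)) fun P _ => ?_)
  let q := P.comap (algebraMap B (Localization (oneAdd J)))
  haveI : q.IsPrime := Ideal.comap_isPrime _ _
  haveI : IsLocalization.AtPrime (Localization.AtPrime P) q :=
    IsLocalization.isLocalization_isLocalization_atPrime_isLocalization (oneAdd J) _ P
  let e : Localization.AtPrime q ≃ₐ[B] Localization.AtPrime P :=
    IsLocalization.algEquiv q.primeCompl _ _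
  haveI : Module.Flat A (Localization.AtPrime q) := by
    have := h q (le_comap_of_isMaximal J P)
    rw [show (algebraMap B (Localization.AtPrime q)).comp φ = algebraMap A (Localization.AtPrime q) from
      (IsScalarTower.algebraMap_eq A B _).symm, RingHom.flat_algebraMap_iff] at this
    exact this
  exact Module.Flat.of_linearEquiv (e.restrictScalars A).symm.toLinearEquiv

/-- An affine scheme may be shrunk around a closed set of flat points to a flat one. -/
theorem exists_flat_localisation {W V : Scheme.{u}} [IsAffine W] [IsAffine V] (w : W ⟶ V) {T : Set ↥W}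
    (hT : IsClosed T) (hfl : ∀ x ∈ T, (w.stalkMap x).hom.Flat) :
    ∃ (W' : Scheme.{u}) (ι : W' ⟶ W), IsAffine W' ∧ Flat (ι ≫ w) ∧ T ⊆ Set.range ι := by
  obtain ⟨φ, hφ⟩ := Spec.map_surjective (W.isoSpec.inv ≫ w ≫ V.isoSpec.hom)
  let T' : Set (PrimeSpectrum Γ(W, ⊤)) := (W.isoSpec.inv : Spec Γ(W, ⊤) ⟶ W) ⁻¹' T
  have hT' : IsClosed T' := hT.preimage W.isoSpec.inv.continuous
  let J := PrimeSpectrum.vanishingIdeal T'
  have hJ : PrimeSpectrum.zeroLocus (J : Set Γ(W, ⊤)) = T' := by
    rw [PrimeSpectrum.zeroLocus_vanishingIdeal_eq_closure, hT'.closure_eq]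
  let α : Γ(W, ⊤) ⟶ CommRingCat.of (Localization (oneAdd J)) := CommRingCat.ofHom (algebraMap _ _)
  refine ⟨Spec (CommRingCat.of (Localization (oneAdd J))), Spec.map α ≫ W.isoSpec.inv, inferInstance, ?_, ?_⟩
  · have hflat : Flat (Spec.map (φ ≫ α)) := by
      rw [Flat.SpecMap_iff]
      show ((algebraMap _ _).comp φ.hom).Flat
      refine flat_oneAdd φ.hom J fun q _ hq => ?_
      have hqT : (⟨q, ‹_›⟩ : PrimeSpectrum Γ(W, ⊤)) ∈ T' := by rw [← hJ]; exact hq
      have h1 : ((Spec.map φ).stalkMap ⟨q, ‹_›⟩).hom.Flat := by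
        have h0 := hfl _ hqT
        rw [hφ, Scheme.Hom.stalkMap_comp, Scheme.Hom.stalkMap_comp, CommRingCat.hom_comp, CommRingCat.hom_comp]
        refine RingHom.Flat.comp (RingHom.Flat.comp ?_ h0) ?_
        · exact RingHom.Flat.of_bijective (ConcreteCategory.bijective_of_isIso _)
        · exact RingHom.Flat.of_bijective (ConcreteCategory.bijective_of_isIso _)
      have h2 : (Localization.localRingHom _ q φ.hom rfl).Flat :=
        (RingHom.Flat.respectsIso.arrow_mk_iso_iff (Scheme.arrowStalkMapSpecIso φ ⟨q, ‹_›⟩)).1 h1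
      have h3 : ((Localization.localRingHom _ q φ.hom rfl).comp (algebraMap Γ(V, ⊤) _)).Flat :=
        RingHom.Flat.comp (RingHom.flat_algebraMap_iff.2 (IsLocalization.flat _ (q.comap φ.hom).primeCompl)) h2
      convert h3 using 1
      ext a
      exact (Localization.localRingHom_to_map _ q φ.hom rfl a).symm
    have e : (Spec.map α ≫ W.isoSpec.inv) ≫ w = Spec.map (φ ≫ α) ≫ V.isoSpec.inv := by
      rw [Spec.map_comp, hφ]
      simp
    rw [e]
    infer_instance
  · intro x hx
    let y : PrimeSpectrum Γ(W, ⊤) := (W.isoSpec.hom : W ⟶ Spec Γ(W, ⊤)) x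
    have hxy : (W.isoSpec.inv : Spec Γ(W, ⊤) ⟶ W) y = x := by
      show (W.isoSpec.hom ≫ W.isoSpec.inv) x = x
      rw [Iso.hom_inv_id]
      rfl
    have hy : J ≤ y.asIdeal := by
      have : y ∈ T' := by show _ ∈ T; rw [hxy]; exact hx
      rw [← hJ] at this
      exact this
    have hd : Disjoint (oneAdd J : Set Γ(W, ⊤)) (y.asIdeal : Set Γ(W, ⊤)) := by
      rw [Set.disjoint_left]
      intro b hb hby
      refine y.2.ne_top (y.asIdeal.eq_top_of_isUnit_mem ?_ isUnit_one)
      have := y.asIdeal.sub_mem hby (hy hb)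
      simpa using this
    obtain ⟨z, hz⟩ : y ∈ Set.range (PrimeSpectrum.comap (algebraMap Γ(W, ⊤) (Localization (oneAdd J)))) := by
      rw [PrimeSpectrum.localization_comap_range _ (oneAdd J)]
      exact hd
    refine ⟨z, ?_⟩
    show (W.isoSpec.inv : Spec Γ(W, ⊤) ⟶ W) ((Spec.map α) z) = x
    rw [← hxy]
    exact congrArg _ hz

end Groth.Agent.GlueCoverLib
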